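import Groth.Agent.S1629
import Groth.Agent.ResLiftLib.Basic
import Groth.Agent.GenFree.Scheme
import Groth.Agent.AWNLib.Basic
import Groth.Agent.DVRCrit.Local
import Groth.Agent.SmoothStratLib.Noeth
import Groth.Prelude.Def_Flat
import Mathlib

/-! A finite universal homeomorphism of the base after which the reduced generic fibre is geometrically
reduced. -/

set_option autoImplicit false
set_option backward.isDefEq.respectTransparency false
set_option backward.isDefEq.respectTransparency.types false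
set_option linter.style.haveILetI false
set_option linter.unusedSectionVars false
set_option maxHeartbeats 1000000
universe u

open CategoryTheory CategoryTheory.Limits AlgebraicGeometry TopologicalSpace

noncomputable section

namespace Groth.Agent.GenRedCover

/-- Two maps into a field agree at an element having a `q ^ n`-th power where they agree. -/
theorem eq_of_pow_eq {K : Type u} [Field K] {q n : ℕ} (hq : q = 1 ∨ (q.Prime ∧ (q : K) = 0)) {a b : K}
    (h : a ^ q ^ n = b ^ q ^ n) : a = b := by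
  rcases hq with rfl | ⟨hp, h0⟩
  · simpa using h
  · haveI : CharP K q := (CharP.charP_iff_prime_eq_zero hp).mpr h0
    haveI : Fact q.Prime := ⟨hp⟩
    exact iterateFrobenius_inj K q n (by simpa [iterateFrobenius_def] using h)

variable (R : Type u) [CommRing R] (L : Type u) [Field L] [Algebra R L]

/-- The finite subalgebra of a purely inseparable extension of the residue field. -/
theorem exists_algebra (hker : RingHom.ker (algebraMap R L) ≤ nilradical R)
    (κ : Type u) [Field κ] [Algebra κ L] [IsPurelyInseparable κ L] [Module.Finite κ L]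
    (hκ : ∀ y : κ, ∃ a b : R, algebraMap R L b ≠ 0 ∧ algebraMap κ L y = algebraMap R L a / algebraMap R L b) :
    ∃ S : Subalgebra R L, Module.Finite R S ∧ (∀ x : L, x ∈ ResLiftLib.genField S.val.toRingHom) ∧
      FlatMor.IsUnivHomeo (Spec.map (CommRingCat.ofHom (algebraMap R S))) := by
  classical
  obtain ⟨q, hq⟩ := ExpChar.exists κ
  haveI := hq
  haveI := expChar_of_injective_algebraMap (algebraMap κ L).injective q
  let b := Module.finBasis κ L
  choose n y hy using fun i => IsPurelyInseparable.pow_mem κ q (b i)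
  choose a c hc hac using fun i => hκ (y i)
  let x : Fin (Module.finrank κ L) → L := fun i => algebraMap R L (c i) * b i
  have hx : ∀ i, ∃ r : R, algebraMap R L r = x i ^ q ^ n i := fun i => by
    have hpos : 0 < q ^ n i := pow_pos (expChar_pos κ q) _
    obtain ⟨m, hm⟩ := Nat.exists_eq_succ_of_ne_zero hpos.ne'
    refine ⟨c i ^ m * a i, ?_⟩
    show _ = (algebraMap R L (c i) * b i) ^ q ^ n i
    rw [mul_pow, ← hy i, hac i, hm, pow_succ, map_mul, map_pow, mul_assoc, ← mul_div_assoc,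
      mul_div_cancel_left₀ _ (hc i)]
  let S : Subalgebra R L := Algebra.adjoin R (Set.range x)
  have hint : ∀ v ∈ Set.range x, IsIntegral R v := by
    rintro _ ⟨i, rfl⟩
    obtain ⟨r, hr⟩ := hx i
    refine IsIntegral.of_pow (pow_pos (expChar_pos κ q) (n i)) ?_
    rw [← hr]
    exact isIntegral_algebraMap
  haveI hfin : Module.Finite R S := Module.Finite.iff_fg.mpr (fg_adjoin_of_finite (Set.finite_range x) hint)
  refine ⟨S, hfin, fun v => ?_, ?_⟩
  · have hR : ∀ r : R, algebraMap R L r ∈ ResLiftLib.genField S.val.toRingHom := fun r =>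
      Subfield.subset_closure ⟨algebraMap R S r, rfl⟩
    rw [← b.sum_repr v]
    refine sum_mem fun i _ => ?_
    rw [Algebra.smul_def]
    refine mul_mem ?_ ?_
    · obtain ⟨a', b', hb', he⟩ := hκ (b.repr v i)
      rw [he]
      exact div_mem (hR a') (hR b')
    · have h1 : x i ∈ ResLiftLib.genField S.val.toRingHom :=
        Subfield.subset_closure ⟨⟨x i, Algebra.subset_adjoin ⟨i, rfl⟩⟩, rfl⟩
      have h2 : (algebraMap R L (c i))⁻¹ * x i = b i := inv_mul_cancel_left₀ (hc i) (b i)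
      rw [← h2]
      exact mul_mem (inv_mem (hR (c i))) h1
  · have hqS : q = 1 ∨ (q.Prime ∧ (q : S) = 0) := by
      rcases hq with _ | hp
      · exact Or.inl rfl
      · haveI : CharP L q := charP_of_injective_algebraMap (algebraMap κ L).injective q
        exact Or.inr ⟨hp, Subtype.ext (by simp [CharP.cast_eq_zero L q])⟩
    refine AWNLib.isUnivHomeo_of _ (algebraMap_isIntegral_iff.2 inferInstance) (fun K _ g g' hgg => ?_) fun P => ?_
    · refine RingHom.ext fun s => ?_
      obtain ⟨s, hs⟩ := s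
      have hq' : q = 1 ∨ (q.Prime ∧ (q : K) = 0) :=
        hqS.imp id fun h => ⟨h.1, by simpa using congrArg g h.2⟩
      induction hs using Algebra.adjoin_induction with
      | mem v hv =>
        obtain ⟨i, rfl⟩ := hv
        obtain ⟨r, hr⟩ := hx i
        refine eq_of_pow_eq hq' (n := n i) ?_
        rw [← map_pow, ← map_pow]
        have e : (⟨x i, Algebra.subset_adjoin ⟨i, rfl⟩⟩ : S) ^ q ^ n i = algebraMap R S r := Subtype.ext hr.symm
        rw [e]
        exact RingHom.congr_fun hgg r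
      | algebraMap r => exact RingHom.congr_fun hgg r
      | add u v hu hv h1 h2 =>
        rw [show (⟨u + v, add_mem hu hv⟩ : S) = ⟨u, hu⟩ + ⟨v, hv⟩ from rfl, map_add, map_add, h1, h2]
      | mul u v hu hv h1 h2 =>
        rw [show (⟨u * v, mul_mem hu hv⟩ : S) = ⟨u, hu⟩ * ⟨v, hv⟩ from rfl, map_mul, map_mul, h1, h2]
    · haveI : Algebra.IsIntegral R S := inferInstance
      obtain ⟨Q, -, hQ, hQc⟩ := Ideal.exists_ideal_over_prime_of_isIntegral P.asIdeal (⊥ : Ideal S) (by
        intro r hr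
        refine nilradical_le_prime P.asIdeal (hker ?_)
        rw [RingHom.mem_ker]
        exact congrArg Subtype.val (show algebraMap R S r = 0 from hr))
      exact ⟨⟨Q, hQ⟩, PrimeSpectrum.ext hQc⟩

/-- The reduced fibre over the point with field `L`. -/
theorem geomReduced_fibre {X Y Y₀ Z₀ : Scheme.{u}} (f : X ⟶ Y) (η : Y) (L : Type u) [Field L]
    [Algebra (Y.residueField η) L] (g₀ : Y₀ ⟶ Y) (m : Spec (CommRingCat.of L) ⟶ Y₀) [IsPreimmersion m] [Flat m]
    (hm : m ≫ g₀ = Spec.map (CommRingCat.ofHom (algebraMap (Y.residueField η) L)) ≫ Y.fromSpecResidueField η)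
    [IsReduced Z₀] (j₀ : Z₀ ⟶ pullback f g₀) [IsClosedImmersion j₀] [Surjective j₀]
    (hN : GeometricallyReduced ((pullback (f.fiberToSpecResidueField η)
        (Spec.map (CommRingCat.ofHom (algebraMap (Y.residueField η) L)))).nilradical.subschemeι ≫
          pullback.snd _ _)) :
    GeometricallyReduced (pullback.snd (j₀ ≫ pullback.snd f g₀) m) := by
  let a := Spec.map (CommRingCat.ofHom (algebraMap (Y.residueField η) L))
  let B := pullback (f.fiberToSpecResidueField η) a
  let π : B ⟶ pullback f g₀ := pullback.lift (pullback.fst (f.fiberToSpecResidueField η) a ≫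
      pullback.fst f (Y.fromSpecResidueField η)) (pullback.snd (f.fiberToSpecResidueField η) a ≫ m) (by
    rw [Category.assoc, pullback.condition (f := f), Category.assoc, hm]
    exact (pullback.condition_assoc (f := f.fiberToSpecResidueField η) (g := a) _))
  have hB : IsPullback π (pullback.snd (f.fiberToSpecResidueField η) a) (pullback.snd f g₀) m := by
    refine IsPullback.of_right ?_ (pullback.lift_snd _ _ _) (IsPullback.of_hasPullback f g₀)
    have h1 : IsPullback (pullback.fst (f.fiberToSpecResidueField η) a ≫ pullback.fst f (Y.fromSpecResidueField η))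
        (pullback.snd (f.fiberToSpecResidueField η) a) f (a ≫ Y.fromSpecResidueField η) :=
      (IsPullback.of_hasPullback (f.fiberToSpecResidueField η) a).paste_horiz
        (IsPullback.of_hasPullback f (Y.fromSpecResidueField η))
    simpa [π, hm] using h1
  let F := pullback (j₀ ≫ pullback.snd f g₀) m
  let μ : F ⟶ B := hB.lift (pullback.fst _ _ ≫ j₀) (pullback.snd _ _)
    (by rw [Category.assoc]; exact pullback.condition)
  have hμ : IsPullback (pullback.fst (j₀ ≫ pullback.snd f g₀) m) μ j₀ π := by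
    refine IsPullback.of_bot ?_ (hB.lift_fst _ _ _).symm hB
    rw [hB.lift_snd]
    exact IsPullback.of_hasPullback _ _
  haveI : IsClosedImmersion μ := MorphismProperty.of_isPullback hμ inferInstance
  haveI : Surjective μ := MorphismProperty.of_isPullback hμ inferInstance
  haveI : IsReduced F := SmoothStrat.isReduced_of_flat_preimmersion (pullback.fst (j₀ ≫ pullback.snd f g₀) m)
  let ν := B.nilradical.subschemeι
  haveI : IsReduced B.nilradical.subscheme := by
    rw [← Scheme.IdealSheafData.vanishingIdeal_top]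
    exact DVRCrit.isReduced_vanishingIdeal _
  have hν : Set.range ν = Set.univ := by
    rw [Scheme.IdealSheafData.range_subschemeι, Scheme.support_nilradical]
    rfl
  obtain ⟨b, hb⟩ := DVRCrit.exists_factor_closed ν μ (by rw [hν]; exact Set.subset_univ _)
  obtain ⟨c, hc⟩ := DVRCrit.exists_factor_closed μ ν
    (by rw [Set.range_eq_univ.mpr μ.surjective]; exact Set.subset_univ _)
  haveI : IsIso b := ⟨c, (cancel_mono μ).1 (by rw [Category.assoc, hc, hb, Category.id_comp]),
    (cancel_mono ν).1 (by rw [Category.assoc, hb, hc, Category.id_comp])⟩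
  rw [show pullback.snd (j₀ ≫ pullback.snd f g₀) m = b ≫ ν ≫ pullback.snd (f.fiberToSpecResidueField η) a by
    rw [reassoc_of% hb, hB.lift_snd]]
  exact (MorphismProperty.cancel_left_of_respectsIso @GeometricallyReduced b _).mpr hN

/-- Over a dense open the trace of an open on an affine piece is quasi-compact. -/
theorem exists_trace_open {Z S : Scheme.{u}} (t : Z ⟶ S) [IsIntegral S] [IsAffine S] [LocallyOfFiniteType t]
    {A : Z.Opens} (hA : IsAffineOpen A) (W : Z.Opens) (hW : W ≤ A) :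
    ∃ (D : S.Opens) (W₀ : Z.Opens), genericPoint S ∈ D ∧ IsCompact (W₀ : Set Z) ∧ W₀ ≤ W ∧
      ∀ x ∈ W, t x ∈ D → x ∈ W₀ := by
  classical
  haveI : IsAffine (A : Scheme.{u}) := hA
  let η := genericPoint S
  let tA := A.ι ≫ t
  haveI : QuasiCompact tA := by
    rw [quasiCompact_iff_compactSpace]; exact inferInstance
  let F := tA.fiber η
  haveI : LocallyOfFiniteType (tA.fiberToSpecResidueField η) := MorphismProperty.pullback_snd _ _ inferInstance
  haveI : QuasiCompact (tA.fiberToSpecResidueField η) := MorphismProperty.pullback_snd _ _ inferInstance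
  haveI : IsLocallyNoetherian F := LocallyOfFiniteType.isLocallyNoetherian (tA.fiberToSpecResidueField η)
  haveI : CompactSpace F := QuasiCompact.compactSpace_of_compactSpace (tA.fiberToSpecResidueField η)
  haveI : IsNoetherian F := ⟨⟩
  let φ := tA.fiberι η ≫ A.ι
  have hC₀ : IsCompact (φ '' (φ ⁻¹' (W : Set Z))) := (NoetherianSpace.isCompact _).image φ.continuous
  let ι' := {a : Z.affineOpens // a.1 ≤ W}
  obtain ⟨s, hs⟩ := hC₀.elim_finite_subcover (fun a : ι' => (a.1.1 : Set Z)) (fun a => a.1.1.2) (by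
    rintro _ ⟨v, hv, rfl⟩
    obtain ⟨_, ⟨a, ha, rfl⟩, hva, haW⟩ := Z.isBasis_affineOpens.exists_subset_of_mem_open hv W.2
    exact Set.mem_iUnion.2 ⟨⟨⟨a, ha⟩, haW⟩, hva⟩)
  let W₀ : Z.Opens := ⟨⋃ a ∈ s, (a.1.1 : Set Z), isOpen_biUnion fun a _ => a.1.1.2⟩
  let C : Closeds (A : Scheme.{u}) := ⟨(A.ι ⁻¹' (W₀ : Set Z))ᶜ, (W₀.2.preimage A.ι.continuous).isClosed_compl⟩
  let ιC := (Scheme.IdealSheafData.vanishingIdeal C).subschemeι
  obtain ⟨D, hDd, hDflat, -⟩ := GenFree.exists_good_open (ιC ≫ tA)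
  haveI := hDflat
  have hηD : η ∈ D := ((genericPoint_spec S).mem_open_set_iff D.2).2 (by simpa using hDd.nonempty)
  refine ⟨D, W₀, hηD, s.finite_toSet.isCompact_biUnion fun a _ => a.1.2.isCompact,
    fun x hx => ?_, fun x hx hxD => ?_⟩
  · obtain ⟨a, -, ha⟩ := Set.mem_iUnion₂.1 hx
    exact a.2 ha
  by_contra hx₀
  have hxC : (⟨x, hW hx⟩ : A) ∈ Set.range ιC := by
    rw [Scheme.IdealSheafData.range_subschemeι, Scheme.IdealSheafData.coe_support_vanishingIdeal]
    exact hx₀
  obtain ⟨c, hc⟩ := hxC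
  have hcx : A.ι (ιC c) = x := by rw [hc]; rfl
  have hcD : c ∈ (ιC ≫ tA) ⁻¹ᵁ D := by
    show t (A.ι (ιC c)) ∈ D
    rw [hcx]; exact hxD
  obtain ⟨y, hy, hyη⟩ := Flat.generalizingMap ((ιC ≫ tA) ∣_ D)
    (show (⟨η, hηD⟩ : D) ⤳ ((ιC ≫ tA) ∣_ D) ⟨c, hcD⟩ by
      rw [subtype_specializes_iff]; exact genericPoint_specializes _)
  have hy1 : y.1 ⤳ c := (subtype_specializes_iff _ _).1 hy
  have hyη' : tA (ιC y.1) = η := by
    have h := congrArg (fun v => D.ι v) hyη
    simp only [← Scheme.Hom.comp_apply, morphismRestrict_ι] at h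
    exact h
  obtain ⟨v, hv⟩ : ιC y.1 ∈ Set.range (tA.fiberι η) := by
    rw [Scheme.Hom.range_fiberι]; exact hyη'
  have hyW : A.ι (ιC y.1) ∈ W := ((hy1.map ιC.continuous).map A.ι.continuous).mem_open W.2 (hcx ▸ hx)
  have hyW₀ : A.ι (ιC y.1) ∈ W₀ := hs ⟨v, by
    show A.ι (tA.fiberι η v) ∈ W
    rw [hv]; exact hyW, by show A.ι (tA.fiberι η v) = _; rw [hv]⟩
  have hyC : ιC y.1 ∈ (C : Set (A : Scheme.{u})) := by
    rw [← Scheme.IdealSheafData.coe_support_vanishingIdeal C, ← Scheme.IdealSheafData.range_subschemeι]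
    exact ⟨_, rfl⟩
  exact hyC hyW₀

/-- A scheme of finite type over an integral affine base is quasi-separated over a dense open. -/
theorem exists_qs_open {Z S : Scheme.{u}} (t : Z ⟶ S) [IsIntegral S] [IsAffine S] [LocallyOfFiniteType t]
    [QuasiCompact t] :
    ∃ D : S.Opens, genericPoint S ∈ D ∧ ∀ E : S.Opens, IsAffineOpen E → E ≤ D → QuasiSeparated (t ∣_ E) := by
  classical
  haveI : CompactSpace Z := QuasiCompact.compactSpace_of_compactSpace t
  obtain ⟨s, hs, hcov⟩ : ∃ s : Set Z.affineOpens, s.Finite ∧ ((⊤ : Z.Opens) : Set Z) = ⋃ i ∈ s, (i.1 : Set Z) :=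
    isCompact_and_isOpen_iff_finite_and_eq_biUnion_affineOpens.mp ⟨by simpa using isCompact_univ, (⊤ : Z.Opens).2⟩
  haveI := hs.to_subtype
  choose D W₀ hη hW₀c hW₀le hW₀ using fun p : s × s =>
    exists_trace_open t p.1.1.2 (p.1.1.1 ⊓ p.2.1.1) inf_le_left
  let D' : S.Opens := ⟨⋂ p, (D p : Set S), isOpen_iInter_of_finite fun p => (D p).2⟩
  refine ⟨D', Set.mem_iInter.2 hη, fun E hE hED => ?_⟩
  haveI : IsAffine (E : Scheme.{u}) := hE
  have key : ∀ (i j : s) (K L : Z.Opens), IsCompact (K : Set Z) → IsCompact (L : Set Z) →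
      K ≤ i.1.1 → L ≤ j.1.1 → K ≤ t ⁻¹ᵁ E → IsCompact ((K : Set Z) ∩ L) := by
    intro i j K L hKc hLc hKi hLj hKE
    have hle := hW₀le (i, j)
    have e : (K : Set Z) ∩ L = ((K : Set Z) ∩ W₀ (i, j)) ∩ ((L : Set Z) ∩ W₀ (i, j)) := by
      ext x
      refine ⟨fun ⟨h1, h2⟩ => ?_, fun h => ⟨h.1.1, h.2.1⟩⟩
      have := hW₀ (i, j) x ⟨hKi h1, hLj h2⟩ (Set.mem_iInter.1 (hED (hKE h1)) (i, j))
      exact ⟨⟨h1, this⟩, h2, this⟩
    rw [e]
    have hw := (W₀ (i, j)).2
    refine i.1.2.isQuasiSeparated _ _ (fun x hx => hKi hx.1) (K.2.inter hw) ?_ (fun x hx => (hle hx.2).1)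
      (L.2.inter hw) ?_
    · exact i.1.2.isQuasiSeparated _ _ hKi K.2 hKc (fun x hx => (hle hx).1) hw (hW₀c _)
    · exact j.1.2.isQuasiSeparated _ _ hLj L.2 hLc (fun x hx => (hle hx).2) hw (hW₀c _)
  rw [quasiSeparated_iff_quasiSeparatedSpace, quasiSeparatedSpace_iff_forall_affineOpens]
  intro A B
  have hemb := (t ⁻¹ᵁ E).ι.isOpenEmbedding
  rw [hemb.isEmbedding.isCompact_iff, Set.image_inter hemb.injective]
  have hpieces : ∀ A : (↑(t ⁻¹ᵁ E) : Scheme.{u}).affineOpens, ∃ q : Finset (Σ i : s, {K : Z.Opens //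
      IsCompact (K : Set Z) ∧ K ≤ i.1.1 ∧ K ≤ t ⁻¹ᵁ E}), (t ⁻¹ᵁ E).ι '' (A.1 : Set _) = ⋃ k ∈ q, (k.2.1 : Set Z) := by
    intro A
    have hc : IsCompact ((t ⁻¹ᵁ E).ι '' (A.1 : Set _)) := A.2.isCompact.image (t ⁻¹ᵁ E).ι.continuous
    have ho := hemb.isOpenMap _ A.1.2
    let κ' := {k : Σ i : s, {K : Z.Opens // IsCompact (K : Set Z) ∧ K ≤ i.1.1 ∧ K ≤ t ⁻¹ᵁ E} //
      (k.2.1 : Set Z) ⊆ (t ⁻¹ᵁ E).ι '' (A.1 : Set _)}
    obtain ⟨q, hq⟩ := hc.elim_finite_subcover (fun k : κ' => (k.1.2.1 : Set Z)) (fun k => k.1.2.1.2) (fun x hx => by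
      have hxt : x ∈ ((⊤ : Z.Opens) : Set Z) := trivial
      rw [hcov] at hxt
      obtain ⟨i, hi, hxi⟩ := Set.mem_iUnion₂.1 hxt
      have hxE : x ∈ t ⁻¹ᵁ E := by obtain ⟨y, -, rfl⟩ := hx; exact y.2
      obtain ⟨_, ⟨K, hK, rfl⟩, hxK, hKs⟩ := Z.isBasis_affineOpens.exists_subset_of_mem_open
        (show x ∈ ((t ⁻¹ᵁ E).ι '' (A.1 : Set _)) ∩ ((i.1 : Set Z) ∩ (t ⁻¹ᵁ E : Set Z)) from ⟨hx, hxi, hxE⟩)
        (ho.inter (i.1.2.inter (t ⁻¹ᵁ E).2))
      exact Set.mem_iUnion.2 ⟨⟨⟨⟨i, hi⟩, K, hK.isCompact, fun y hy => (hKs hy).2.1, fun y hy => (hKs hy).2.2⟩,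
        fun y hy => (hKs hy).1⟩, hxK⟩)
    refine ⟨q.image Subtype.val, Set.Subset.antisymm (hq.trans ?_) ?_⟩
    · refine Set.iUnion₂_subset fun k hk => ?_
      exact Set.subset_iUnion₂_of_subset k.1 (Finset.mem_image_of_mem _ hk) subset_rfl
    · refine Set.iUnion₂_subset fun k hk => ?_
      obtain ⟨k', -, rfl⟩ := Finset.mem_image.1 hk
      exact k'.2
  obtain ⟨p, hp⟩ := hpieces A
  obtain ⟨q, hq⟩ := hpieces B
  rw [hp, hq, Set.iUnion₂_inter_iUnion₂]
  exact p.finite_toSet.isCompact_biUnion fun k _ => q.finite_toSet.isCompact_biUnion fun l _ =>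
    key k.1 l.1 k.2.1 l.2.1 k.2.2.1 l.2.2.1 k.2.2.2.1 l.2.2.2.1 k.2.2.2.2

theorem main {X Y : Scheme.{u}} (f : X ⟶ Y) [IrreducibleSpace ↑Y] [LocallyOfFiniteType f] [QuasiCompact f] :
    ∃ (V : Y.Opens) (Y' : Scheme.{u}) (g : Y' ⟶ (V : Scheme.{u})) (X' : Scheme.{u}) (r : X' ⟶ pullback f (g ≫ V.ι)) (hY' : IsIntegral Y'),
      (V : Set ↑Y).Nonempty ∧ IsAffine Y' ∧ IsFinite g ∧ FlatMor.IsUnivHomeo g ∧ IsClosedImmersion r ∧ Surjective r ∧ IsReduced X' ∧
      Flat (r ≫ pullback.snd f (g ≫ V.ι)) ∧ LocallyOfFinitePresentation (r ≫ pullback.snd f (g ≫ V.ι)) ∧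
      QuasiCompact (r ≫ pullback.snd f (g ≫ V.ι)) ∧ QuasiSeparated (r ≫ pullback.snd f (g ≫ V.ι)) ∧
      GeometricallyReduced ((r ≫ pullback.snd f (g ≫ V.ι)).fiberToSpecResidueField (genericPoint ↑Y')) := by
  classical
  let η := genericPoint ↑Y
  let κ := Y.residueField η
  letI : (f.fiber η).Over (Spec (CommRingCat.of κ)) := ⟨f.fiberToSpecResidueField η⟩
  haveI : LocallyOfFiniteType (f.fiberToSpecResidueField η) := MorphismProperty.pullback_snd _ _ inferInstance
  haveI : LocallyOfFiniteType (f.fiber η ↘ Spec (CommRingCat.of κ)) :=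
    inferInstanceAs (LocallyOfFiniteType (f.fiberToSpecResidueField η))
  have hfinI : (irreducibleComponents (f.fiber η : Type u)).Finite := by
    haveI : QuasiCompact (f.fiberToSpecResidueField η) := MorphismProperty.pullback_snd _ _ inferInstance
    haveI : IsLocallyNoetherian (f.fiber η) := LocallyOfFiniteType.isLocallyNoetherian (f.fiberToSpecResidueField η)
    haveI : CompactSpace (f.fiber η) := QuasiCompact.compactSpace_of_compactSpace (f.fiberToSpecResidueField η)
    haveI : IsNoetherian (f.fiber η) := ⟨⟩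
    exact TopologicalSpace.NoetherianSpace.finite_irreducibleComponents
  obtain ⟨L, _, _, _, _, hL⟩ := Groth.Agent.S1629.result κ (f.fiber η) hfinI
  obtain ⟨W, hW, hηW, -⟩ := exists_isAffineOpen_mem_and_subset (x := η) (U := ⊤) trivial
  let R : CommRingCat.{u} := Γ(Y, W)
  let ev : R ⟶ κ := Y.evaluation W η hηW
  have hev : Y.fromSpecResidueField η = Spec.map ev ≫ hW.fromSpec := by
    show Spec.map (Y.residue η) ≫ Y.fromSpecStalk η = _
    rw [← hW.fromSpecStalk_eq_fromSpecStalk hηW, IsAffineOpen.fromSpecStalk, ← Category.assoc, ← Spec.map_comp]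
    rfl
  letI : Algebra R L := ((algebraMap κ L).comp ev.hom).toAlgebra
  have hκ : ∀ y : κ, ∃ a b : R, algebraMap R L b ≠ 0 ∧ algebraMap κ L y = algebraMap R L a / algebraMap R L b := by
    intro y
    obtain ⟨y, rfl⟩ := Scheme.residue_surjective Y η y
    letI := TopCat.Presheaf.algebra_section_stalk Y.presheaf (⟨η, hηW⟩ : W)
    haveI := hW.isLocalization_stalk ⟨η, hηW⟩
    obtain ⟨⟨a, s⟩, has⟩ := IsLocalization.surj (M := (hW.primeIdealOf ⟨η, hηW⟩).asIdeal.primeCompl) y
    have hsu : IsUnit (algebraMap R (Y.presheaf.stalk η) s) := IsLocalization.map_units _ s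
    have h1 := congrArg (fun w => algebraMap κ L ((Y.residue η).hom w)) has
    simp only [map_mul] at h1
    have h2 : algebraMap κ L ((Y.residue η).hom (algebraMap R (Y.presheaf.stalk η) s)) ≠ 0 :=
      ((hsu.map _).map (algebraMap κ L)).ne_zero
    exact ⟨a, s, h2, eq_div_of_mul_eq h2 h1⟩
  have hker : RingHom.ker (algebraMap R L) ≤ nilradical R := by
    intro v hv
    have hv' : ev.hom v = 0 := (algebraMap κ L).injective (hv.trans (map_zero _).symm)
    rw [nilradical_eq_sInf, Submodule.mem_sInf]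
    intro P hP
    let Q : ↥(Spec R) := (Spec.map ev).base (IsLocalRing.closedPoint κ)
    have hQ : hW.fromSpec.base Q = η := by
      show (Spec.map ev ≫ hW.fromSpec).base (IsLocalRing.closedPoint κ) = η
      rw [← hev]
      exact Scheme.fromSpecResidueField_apply _ _
    have h1 : Q ⤳ (⟨P, hP⟩ : PrimeSpectrum R) := by
      rw [← hW.fromSpec.isOpenEmbedding.isInducing.specializes_iff, hQ]
      exact genericPoint_specializes _
    refine (PrimeSpectrum.le_iff_specializes Q ⟨P, hP⟩).2 h1 ?_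
    show ev.hom v ∈ (IsLocalRing.closedPoint κ).asIdeal
    rw [hv']
    exact zero_mem _
  obtain ⟨S, hSfin, hSgen, hSh⟩ := exists_algebra R L hker κ hκ
  let Y₀ : Scheme.{u} := Spec (CommRingCat.of S)
  let r₀ : Y₀ ⟶ Spec R := Spec.map (CommRingCat.ofHom (algebraMap R S))
  let g₀ : Y₀ ⟶ Y := r₀ ≫ hW.fromSpec
  let m : Spec (CommRingCat.of L) ⟶ Y₀ := Spec.map (CommRingCat.ofHom (algebraMap S L))
  haveI : IsFractionRing S L := by
    refine IsFractionRing.of_field S L fun x => ?_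
    obtain ⟨a, b, hb, rfl⟩ := ResLiftLib.exists_div S.val.toRingHom (hSgen x)
    exact ⟨a, b, rfl⟩
  haveI : Flat m := (HasRingHomProperty.Spec_iff (P := @Flat)).2
    (RingHom.flat_algebraMap_iff.2 (IsLocalization.flat L (nonZeroDivisors S)))
  haveI : IsPreimmersion m := IsPreimmersion.of_isLocalization (nonZeroDivisors S)
  have hm : m ≫ g₀ = Spec.map (CommRingCat.ofHom (algebraMap κ L)) ≫ Y.fromSpecResidueField η := by
    rw [hev]
    simp only [m, g₀, r₀, ← Category.assoc, ← Spec.map_comp]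
    rfl
  let z : Y₀ := genericPoint Y₀
  let P₀ := pullback f g₀
  let j₀ := P₀.nilradical.subschemeι
  haveI : IsReduced P₀.nilradical.subscheme := by
    rw [← Scheme.IdealSheafData.vanishingIdeal_top]
    exact DVRCrit.isReduced_vanishingIdeal _
  haveI : Surjective j₀ := ⟨fun x => by
    have : x ∈ Set.range j₀ := by
      rw [Scheme.IdealSheafData.range_subschemeι, Scheme.support_nilradical]
      trivial
    exact this⟩
  let t₀ := j₀ ≫ pullback.snd f g₀
  obtain ⟨U, hUd, hUg⟩ := GenFree.exists_good_open t₀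
  have hzU : z ∈ U := ((genericPoint_spec Y₀).mem_open_set_iff U.2).2 (by simpa using hUd.nonempty)
  obtain ⟨Dq, hzDq, hDq⟩ := exists_qs_open t₀
  obtain ⟨_, ⟨U₁ : Y₀.Opens, hU₁, rfl⟩, hzU₁, hU₁U'⟩ :=
    Y₀.isBasis_affineOpens.exists_subset_of_mem_open (show z ∈ (U : Set Y₀) ∩ Dq from ⟨hzU, hzDq⟩) (U.2.inter Dq.2)
  have hU₁U : (U₁ : Set Y₀) ⊆ U := fun x hx => (hU₁U' hx).1
  have hr₀ : IsHomeomorph r₀ := UnivHomeo.isHomeomorph hSh
  let D : (Spec R).Opens := ⟨r₀ '' U₁, hr₀.isOpenMap _ U₁.2⟩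
  have hDU : r₀ ⁻¹ᵁ D = U₁ := TopologicalSpace.Opens.ext (Set.preimage_image_eq _ hr₀.injective)
  let U₂ : Y₀.Opens := r₀ ⁻¹ᵁ D
  have hzU₂ : z ∈ U₂ := ⟨z, hzU₁, rfl⟩
  have hgood : Flat (t₀ ∣_ U₂) ∧ LocallyOfFinitePresentation (t₀ ∣_ U₂) :=
    GenFree.good_mono t₀ (fun x hx => hU₁U (hDU ▸ hx)) hUg
  haveI := hgood.1
  haveI := hgood.2
  haveI : QuasiSeparated (t₀ ∣_ U₂) := hDq U₂ (by rw [show U₂ = U₁ from hDU]; exact hU₁)
    (fun x hx => (hU₁U' (show x ∈ U₁ from hDU ▸ hx)).2)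
  haveI : Nonempty U₂ := ⟨⟨z, hzU₂⟩⟩
  haveI : IsIntegral (U₂ : Scheme.{u}) := isIntegral_of_isOpenImmersion U₂.ι
  haveI : IsFinite r₀ := (IsFinite.SpecMap_iff _).2 (RingHom.finite_algebraMap.2 hSfin)
  let V : Y.Opens := hW.fromSpec ''ᵁ D
  obtain ⟨g, hg, hguh, hgfin⟩ : ∃ g : (U₂ : Scheme.{u}) ⟶ (V : Scheme.{u}),
      g ≫ V.ι = U₂.ι ≫ g₀ ∧ FlatMor.IsUnivHomeo g ∧ IsFinite g := by
    let g : (U₂ : Scheme.{u}) ⟶ (V : Scheme.{u}) := (r₀ ∣_ D) ≫ (hW.fromSpec.isoImage D).hom
    have hg : g ≫ V.ι = U₂.ι ≫ g₀ := by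
      simp only [g, V, Category.assoc, Scheme.Hom.isoImage_hom_ι]
      rw [← Category.assoc, morphismRestrict_ι, Category.assoc]
    have hguh : FlatMor.IsUnivHomeo g := by
      have h1 : FlatMor.IsUnivHomeo (r₀ ∣_ D) :=
        (MorphismProperty.universally_isStableUnderBaseChange _).of_isPullback (isPullback_morphismRestrict r₀ D).flip hSh
      haveI : FlatMor.IsUnivHomeo.{u}.RespectsIso := MorphismProperty.universally_respectsIso _
      exact (MorphismProperty.cancel_right_of_respectsIso FlatMor.IsUnivHomeo _ _).2 h1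
    exact ⟨g, hg, hguh, inferInstance⟩
  let X' := pullback t₀ U₂.ι
  haveI : IsReduced X' := isReduced_of_isOpenImmersion (pullback.fst t₀ U₂.ι)
  let P := pullback f (g ≫ V.ι)
  let π : P ⟶ P₀ := pullback.lift (pullback.fst f (g ≫ V.ι)) (pullback.snd f (g ≫ V.ι) ≫ U₂.ι)
    (pullback.condition.trans ((congrArg (pullback.snd f (g ≫ V.ι) ≫ ·) hg).trans (Category.assoc _ _ _).symm))
  have hP : IsPullback π (pullback.snd f (g ≫ V.ι)) (pullback.snd f g₀) U₂.ι := by
    refine IsPullback.of_right ?_ (pullback.lift_snd _ _ _) (IsPullback.of_hasPullback f g₀)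
    rw [pullback.lift_fst, ← hg]
    exact IsPullback.of_hasPullback f (g ≫ V.ι)
  let r : X' ⟶ P := hP.lift (pullback.fst _ _ ≫ j₀) (pullback.snd _ _)
    (by rw [Category.assoc]; exact pullback.condition)
  have hr : IsPullback (pullback.fst t₀ U₂.ι) r j₀ π := by
    refine IsPullback.of_bot ?_ (hP.lift_fst _ _ _).symm hP
    rw [hP.lift_snd]
    exact IsPullback.of_hasPullback _ _
  haveI : IsClosedImmersion r := MorphismProperty.of_isPullback hr inferInstance
  haveI : Surjective r := MorphismProperty.of_isPullback hr inferInstance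
  have hsnd : r ≫ pullback.snd f (g ≫ V.ι) = pullback.snd t₀ U₂.ι := hP.lift_snd _ _ _
  have hrest : pullback.snd t₀ U₂.ι = (isPullback_morphismRestrict t₀ U₂).flip.isoPullback.inv ≫ t₀ ∣_ U₂ :=
    ((isPullback_morphismRestrict t₀ U₂).flip.isoPullback_inv_snd).symm
  refine ⟨V, U₂, g, X', r, inferInstance, ⟨hW.fromSpec (r₀ z), r₀ z, hzU₂, rfl⟩, ?_, hgfin, hguh,
    inferInstance, inferInstance, inferInstance, ?_, ?_, ?_, ?_, ?_⟩
  · show IsAffine (U₂ : Scheme.{u})
    rw [show U₂ = U₁ from hDU]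
    exact hU₁
  · rw [hsnd, hrest]; infer_instance
  · rw [hsnd, hrest]; infer_instance
  · rw [hsnd]; infer_instance
  · rw [hsnd, hrest]; infer_instance
  have hmz : m.base (IsLocalRing.closedPoint L) = z := by
    refine ((genericPoint_spec Y₀).eq ?_).symm
    refine Set.eq_univ_of_forall fun y => ((PrimeSpectrum.le_iff_specializes _ _).1 ?_).mem_closure
    show (IsLocalRing.closedPoint L).asIdeal.comap (algebraMap S L) ≤ _
    rw [show (IsLocalRing.closedPoint L).asIdeal = (⊥ : Ideal L) from IsLocalRing.maximalIdeal_eq_bot,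
      Ideal.comap_bot_of_injective _ Subtype.val_injective]
    exact bot_le
  obtain ⟨θ, hθiso, hθ⟩ : ∃ θ : Spec (CommRingCat.of L) ⟶ Spec (Y₀.residueField z), IsIso θ ∧
      θ ≫ Y₀.fromSpecResidueField z = m := by
    rw [← hmz]
    have hfac : Spec.map (Y₀.descResidueField (Scheme.stalkClosedPointTo m)) ≫
        Y₀.fromSpecResidueField (m.base (IsLocalRing.closedPoint L)) = m :=
      Scheme.descResidueField_stalkClosedPointTo_fromSpecResidueField L Y₀ m
    refine ⟨_, ?_, hfac⟩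
    let d : Y₀.residueField (m.base (IsLocalRing.closedPoint L)) ⟶ CommRingCat.of L :=
      Y₀.descResidueField (Scheme.stalkClosedPointTo m)
    have hd : Spec.preimage (Y₀.fromSpecResidueField (m.base (IsLocalRing.closedPoint L))) ≫ d =
        CommRingCat.ofHom (algebraMap S L) :=
      Spec.map_injective (by rw [Spec.map_comp, Spec.map_preimage]; exact hfac)
    have hmem : ∀ v : S, (v : L) ∈ d.hom.fieldRange := fun v =>
      ⟨_, RingHom.congr_fun (congrArg CommRingCat.Hom.hom hd) v⟩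
    have hG : ResLiftLib.genField S.val.toRingHom ≤ d.hom.fieldRange :=
      Subfield.closure_le.2 fun y ⟨v, hv⟩ => hv ▸ hmem v
    haveI : IsIso d := (ConcreteCategory.isIso_iff_bijective d).2 ⟨d.hom.injective, fun y => hG (hSgen y)⟩
    exact inferInstanceAs (IsIso (Spec.map d))
  haveI := hθiso
  let ζ := genericPoint ↥(U₂ : Scheme.{u})
  have hζ : U₂.ι ζ = z := genericPoint_eq_of_isOpenImmersion U₂.ι
  obtain ⟨ρ, hρi, hρ⟩ : ∃ ρ : Spec ((U₂ : Scheme.{u}).residueField ζ) ⟶ Spec (CommRingCat.of L), IsIso ρ ∧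
      ρ ≫ m = (U₂ : Scheme.{u}).fromSpecResidueField ζ ≫ U₂.ι := by
    have h1 := U₂.ι.SpecMap_residueFieldMap_fromSpecResidueField ζ
    refine ⟨Spec.map (U₂.ι.residueFieldMap ζ) ≫ Spec.map (Y₀.residueFieldCongr hζ.symm).hom ≫ inv θ, inferInstance, ?_⟩
    rw [← hθ]
    simp only [Category.assoc, IsIso.inv_hom_id_assoc]
    rw [Scheme.residueFieldCongr_fromSpecResidueField]
    exact h1
  haveI := hρi
  rw [hsnd]
  let F := pullback (pullback.snd t₀ U₂.ι) ((U₂ : Scheme.{u}).fromSpecResidueField ζ)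
  have hF : IsPullback (pullback.fst (pullback.snd t₀ U₂.ι) ((U₂ : Scheme.{u}).fromSpecResidueField ζ) ≫
      pullback.fst t₀ U₂.ι) (pullback.snd _ _ ≫ ρ) t₀ m :=
    ((IsPullback.of_hasPullback (pullback.snd t₀ U₂.ι) ((U₂ : Scheme.{u}).fromSpecResidueField ζ)).paste_horiz
      (IsPullback.of_hasPullback t₀ U₂.ι)).of_iso (Iso.refl _) (Iso.refl _) (asIso ρ) (Iso.refl _)
      (by simp) (by simp) (by simp) (by simpa using hρ.symm)
  have hres := geomReduced_fibre f η L g₀ m hm j₀ hL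
  rw [← hF.isoPullback_inv_snd] at hres
  exact (MorphismProperty.cancel_right_of_respectsIso @GeometricallyReduced _ ρ).1
    ((MorphismProperty.cancel_left_of_respectsIso @GeometricallyReduced hF.isoPullback.inv _).1 hres)

end Groth.Agent.GenRedCover
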